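import Mathlib
import Groth.Agent.Lib.Helper7.FPColim5

/-! helper7: approximation property for polynomial systems implies the approximation property for
functors commuting with filtered colimits (via finitely presented pieces of the completion). -/

set_option linter.style.haveILetI false
set_option linter.unusedVariables false
set_option linter.unusedSectionVars false

universe u

namespace Groth.Agent.Helper7.ArtinFun

open Groth.Agent.Helper7.FPColim MvPolynomial

variable {A B : Type u} [CommRing A] [CommRing B] [Algebra A B]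

/-- Two algebra maps out of a finitely presented piece agree once they agree on the classes of
the variables. -/
theorem algHom_ext_C {T : Type u} [CommRing T] [Algebra A T] (j : Idx A B)
    (g₁ g₂ : C j →ₐ[A] T)
    (h : ∀ (b : B) (hb : b ∈ j.1), g₁ (mk j (X b) (X_mem j hb)) = g₂ (mk j (X b) (X_mem j hb))) :
    g₁ = g₂ := by
  refine AlgHom.ext fun c => ?_
  obtain ⟨f, hf, rfl⟩ := mk_surjective j c
  have hf' : f ∈ Algebra.adjoin A ((X : B → MvPolynomial B A) '' (↑j.1 : Set B)) := hf
  induction hf' using Algebra.adjoin_induction with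
  | mem x hx =>
    obtain ⟨b, hb, rfl⟩ := hx
    exact h b hb
  | algebraMap r =>
    have : mk j (algebraMap A (MvPolynomial B A) r) hf = algebraMap A (C j) r := rfl
    rw [this, AlgHom.commutes, AlgHom.commutes]
  | add x y hx hy h1 h2 =>
    have : mk j (x + y) hf = mk j x hx + mk j y hy := rfl
    rw [this, map_add, map_add, h1 hx, h2 hy]
  | mul x y hx hy h1 h2 =>
    have : mk j (x * y) hf = mk j x hx * mk j y hy := rfl
    rw [this, map_mul, map_mul, h1 hx, h2 hy]

/-- Approximation for one finitely presented piece. -/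
theorem exists_algHom_approx {T : Type u} [CommRing T] [Algebra A T] (ε : B →ₐ[A] T)
    (hAP : ∀ (k l : ℕ) (f : Fin l → MvPolynomial (Fin k) A) (â : Fin k → B),
      (∀ i, aeval â (f i) = 0) →
      ∃ a : Fin k → A, (∀ i, eval a (f i) = 0) ∧ ∀ i, algebraMap A T (a i) = ε (â i))
    (j : Idx A B) (hv : Valid j) :
    ∃ g : C j →ₐ[A] A, ∀ x : C j, algebraMap A T (g x) = ε (π j hv x) := by
  classical
  let σ := ↥(↑j.1 : Set B)
  haveI : Fintype σ := inferInstance
  let k := Fintype.card σ
  let es : Fin k ≃ σ := (Fintype.equivFin σ).symm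
  let l := j.2.card
  let er : Fin l ≃ ↥j.2 := j.2.equivFin.symm
  have hp : ∀ f ∈ j.2, ∃ p : MvPolynomial σ A, rename (Subtype.val : σ → B) p = f := by
    intro f hf
    have h1 := (hv f hf).1
    rw [supported_eq_range_rename, AlgHom.mem_range] at h1
    exact h1
  choose p hp using hp
  let F : Fin l → MvPolynomial (Fin k) A := fun i => rename es.symm (p (er i).1 (er i).2)
  let â : Fin k → B := fun i => ((es i : σ) : B)
  have hâ : ∀ i, aeval â (F i) = 0 := by
    intro i
    show aeval â (rename es.symm (p (er i).1 (er i).2)) = 0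
    rw [aeval_rename]
    have h1 : (â ∘ es.symm) = (Subtype.val : σ → B) := by
      funext x
      simp [â]
    rw [h1]
    have h2 := (hv (er i).1 (er i).2).2
    rw [← hp (er i).1 (er i).2] at h2
    unfold ev at h2
    rw [aeval_rename] at h2
    exact h2
  obtain ⟨a, ha0, haε⟩ := hAP k l F â hâ
  let ã : B → A := fun b => if h : b ∈ (↑j.1 : Set B) then a (es.symm ⟨b, h⟩) else 0
  have hã : (ã ∘ (Subtype.val : σ → B)) = a ∘ es.symm := by
    funext x
    simp only [Function.comp_apply, ã]
    rw [dif_pos x.2]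
  let g₀ : S j →ₐ[A] A := (aeval ã).comp (S j).val
  have hg₀ : ∀ x : S j, x ∈ I j → g₀ x = 0 := by
    have hle : I j ≤ RingHom.ker g₀.toRingHom := by
      unfold I
      rw [Ideal.span_le]
      intro x hx
      have hx' : (x : MvPolynomial B A) ∈ j.2 := hx
      show aeval ã (x : MvPolynomial B A) = 0
      rw [← hp _ hx', aeval_rename, hã]
      have h3 := ha0 (er.symm ⟨_, hx'⟩)
      simp only [F, Equiv.apply_symm_apply] at h3
      rw [← aeval_eq_eval] at h3
      have h4 : aeval a (rename es.symm (p _ hx')) = 0 := h3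
      rw [aeval_rename] at h4
      exact h4
    intro x hx
    exact hle hx
  let g : C j →ₐ[A] A := Ideal.Quotient.liftₐ (I j) g₀ hg₀
  refine ⟨g, ?_⟩
  have key : (Algebra.ofId A T).comp g = ε.comp (π j hv) := by
    apply algHom_ext_C
    intro b hb
    show algebraMap A T (aeval ã (X b)) = ε (ev A B (X b))
    rw [aeval_X]
    have hb' : b ∈ (↑j.1 : Set B) := hb
    have h5 : ã b = a (es.symm ⟨b, hb'⟩) := dif_pos hb'
    rw [h5, haε]
    simp [â, ev]
  intro x
  exact congrArg (fun h => h x) key

lemma closed1_valid : Closed1 (Valid (A := A) (B := B)) where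
  valid _ hj := hj
  empty := valid_emptyIdx
  sup j₁ j₂ h1 h2 := valid_supIdx j₁ j₂ h1 h2
  rel j hj t ht := valid_addRel j hj t ht
  ext1 j hj x f₂ f₃ h2 h3 e2 e3 := valid_ext1 j x f₂ f₃ hj h2 h3 e2 e3

lemma goodFamily_valid : GoodFamily (Valid (A := A) (B := B)) := by
  classical
  refine goodFamily_of_gen closed1_valid (fun b => ⟨(({b} : Finset B), ∅), ?_, ?_⟩)
  · intro f hf
    exact absurd hf (Finset.notMem_empty f)
  · exact Finset.mem_singleton_self b

open CategoryTheory CategoryTheory.Limits

theorem main (A : Type u) [CommRing A]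
    (m : Ideal A)
    (hAP : ∀ (k l c : ℕ) (f : Fin l → MvPolynomial (Fin k) A) (â : Fin k → AdicCompletion m A),
      (∀ i, MvPolynomial.aeval â (f i) = 0) →
      ∃ a : Fin k → A, (∀ i, MvPolynomial.eval a (f i) = 0) ∧
        ∀ j, Ideal.Quotient.mk (m ^ c) (a j) = AdicCompletion.evalₐ m c (â j))
    (F : Under (CommRingCat.of A) ⥤ Type u)
    (hF : ∀ (J : Type u) [SmallCategory J] [IsFiltered J], PreservesColimitsOfShape J F)
    (c : ℕ)
    (π : Under.mk (CommRingCat.ofHom (algebraMap A (AdicCompletion m A))) ⟶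
      Under.mk (CommRingCat.ofHom (algebraMap A (A ⧸ m ^ c))))
    (hπ : π.right = CommRingCat.ofHom
      (AdicCompletion.evalₐ m c : AdicCompletion m A →ₐ[A] A ⧸ m ^ c).toRingHom)
    (ρ : Under.mk (𝟙 (CommRingCat.of A)) ⟶ Under.mk (CommRingCat.ofHom (algebraMap A (A ⧸ m ^ c))))
    (ξ : F.obj (Under.mk (CommRingCat.ofHom (algebraMap A (AdicCompletion m A))))) :
    ∃ η : F.obj (Under.mk (𝟙 (CommRingCat.of A))), F.map ρ η = F.map π ξ := by
  have hQ : GoodFamily (Valid (A := A) (B := AdicCompletion m A)) := goodFamily_valid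
  obtain ⟨hc⟩ := isColimit_cocone Valid hQ
  haveI := isFiltered_idx Valid hQ
  haveI := hF {j : Idx A (AdicCompletion m A) // Valid j}
  have hc' := isColimitOfPreserves F hc
  obtain ⟨j, ξj, hξj⟩ := Types.jointly_surjective_of_isColimit hc' ξ
  obtain ⟨g, hg⟩ := exists_algHom_approx (AdicCompletion.evalₐ m c)
    (fun k l f â h => hAP k l c f â h) j.1 j.2
  let gU : objJ j.1 ⟶ Under.mk (𝟙 (CommRingCat.of A)) :=
    Under.homMk (U := objJ j.1) (V := Under.mk (𝟙 (CommRingCat.of A)))
      (CommRingCat.ofHom g.toRingHom) (by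
        apply CommRingCat.hom_ext
        ext a
        exact g.commutes a)
  have hρ : ρ.right = CommRingCat.ofHom (algebraMap A (A ⧸ m ^ c)) := by
    have := Under.w ρ
    simpa using this
  have hcomm : gU ≫ ρ = toB j.1 j.2 ≫ π := by
    apply Under.UnderMorphism.ext
    apply CommRingCat.hom_ext
    apply RingHom.ext
    intro x
    show ρ.right (g x) = π.right (FPColim.π j.1 j.2 x)
    rw [hρ, hπ]
    exact hg x
  let ξj' : F.obj (objJ j.1) := ξj
  have hξj' : F.map (toB j.1 j.2) ξj' = ξ := hξj
  have e1 : F.map ρ (F.map gU ξj') = F.map (gU ≫ ρ) ξj' :=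
    (Functor.map_comp_apply F gU ρ ξj').symm
  have e2 : F.map π (F.map (toB j.1 j.2) ξj') = F.map (toB j.1 j.2 ≫ π) ξj' :=
    (Functor.map_comp_apply F (toB j.1 j.2) π ξj').symm
  refine ⟨F.map gU ξj', ?_⟩
  rw [e1, hcomm, ← e2, hξj']

end Groth.Agent.Helper7.ArtinFun
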